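import Cfsg.Agent.H185.S8.LieFive
import Cfsg.Agent.H75.S8.LieTwo

/-!
# S4908, SOC1: socles of Lie type, rows Co3 and Co2 (helper185)

* `lie_conway` : there is no almost simple group with socle of Lie type whose degrees satisfy `Good`.
-/

set_option autoImplicit false

namespace Cfsg.Agent.H185.S8

open Cfsg Cfsg.Agent.H704 Cfsg.Agent.NotCT Cfsg.Agent.H657.DS Cfsg.Agent.H690.S8
open Cfsg.Agent.H691.AN (AlmostSimple)

universe u

variable {D : Set ℕ} {A : Type u} [Group A] [Finite A]

/-- **The rows `Co₃` and `Co₂`, Lie type.** -/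
theorem lie_conway (hD : ∀ d ∈ D, Good d) {S : Subgroup A} (hA : AlmostSimple A S) (h : charDegrees A ⊆ D) {p : ℕ}
    (hp : p.Prime) (hl : IsLieTypeChar p S) : False := by
  by_cases h2 : p = 2
  · subst h2
    exact H75.S8.lie_two_false (fun a ha hm => Or.inl (two_good hD ha hm)) (fun d hd r hr => not_dvd_good (hD d hd) hr)
      (fun hc => not_good_44 (hD _ hc)) (fun hc => not_good_88 (hD _ hc)) hA h hl
  · exact lie_odd hD hA h hp h2 hl

end Cfsg.Agent.H185.S8
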