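import Cfsg.Agent.H690.S8.Lie

/-!
# S4908, SOC1: socles of Lie type, rows Co3 and Co2 (helper185)

* `Good` : the numerical conditions on the degrees of `Co₃` and of `Co₂`;
* `pp_good` : the prime powers among these numbers are `23` and `2 ^ 10`;
* `lie_prime` : a group of Lie type with `|S|_q = q` is killed by `q + 1, 2 (q + 1) ∉ D`;
* `lie_odd` : the socle is not of Lie type of odd characteristic.
-/

set_option autoImplicit false

namespace Cfsg.Agent.H185.S8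

open Cfsg Cfsg.Agent.H704 Cfsg.Agent.NotCT Cfsg.Agent.H657.DS Cfsg.Agent.H690.S8
open Cfsg.Agent.H691.AN (AlmostSimple)

universe u

/-- the least common multiple of `|Co₂|` and `|Co₃|` -/
def bigN : ℕ := 2 ^ 18 * 3 ^ 7 * 5 ^ 3 * 7 * 11 * 23

/-- the conditions on the degrees of `Co₃` and of `Co₂` -/
def Good (d : ℕ) : Prop :=
  d ∣ bigN ∧ (d = 1 ∨ 21 ≤ d) ∧ d % 23 ∈ [0, 1, 11, 12, 22] ∧ d % 11 ∈ [0, 1, 5, 6, 10]

theorem prime_dvd_bigN {p : ℕ} (hp : p.Prime) (h : p ∣ bigN) : p ∈ [2, 3, 5, 7, 11, 23] := by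
  have e1 := Nat.prime_two
  have e2 := Nat.prime_three
  have e3 := Nat.prime_five
  have e4 : Nat.Prime 7 := by norm_num
  have e5 : Nat.Prime 11 := by norm_num
  have e6 : Nat.Prime 23 := by norm_num
  unfold bigN at h
  simp only [List.mem_cons, List.not_mem_nil, or_false]
  rcases (hp.dvd_mul).1 h with h | h
  · rcases (hp.dvd_mul).1 h with h | h
    · rcases (hp.dvd_mul).1 h with h | h
      · rcases (hp.dvd_mul).1 h with h | h
        · rcases (hp.dvd_mul).1 h with h | h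
          · exact Or.inl ((Nat.prime_dvd_prime_iff_eq hp e1).1 (hp.dvd_of_dvd_pow h))
          · exact Or.inr (Or.inl ((Nat.prime_dvd_prime_iff_eq hp e2).1 (hp.dvd_of_dvd_pow h)))
        · exact Or.inr (Or.inr (Or.inl ((Nat.prime_dvd_prime_iff_eq hp e3).1 (hp.dvd_of_dvd_pow h))))
      · exact Or.inr (Or.inr (Or.inr (Or.inl ((Nat.prime_dvd_prime_iff_eq hp e4).1 h))))
    · exact Or.inr (Or.inr (Or.inr (Or.inr (Or.inl ((Nat.prime_dvd_prime_iff_eq hp e5).1 h)))))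
  · exact Or.inr (Or.inr (Or.inr (Or.inr (Or.inr ((Nat.prime_dvd_prime_iff_eq hp e6).1 h)))))

/-- the exponent of a prime power divisor is at most `18` -/
theorem exp_le {p a : ℕ} (hp : p ∈ [2, 3, 5, 7, 11, 23]) (h : p ^ a ∣ bigN) : a < 19 := by
  by_contra hcon
  have h1 : p ^ 19 ∣ bigN := (pow_dvd_pow p (by omega)).trans h
  have h2 : ∀ q ∈ [2, 3, 5, 7, 11, 23], ¬ q ^ 19 ∣ bigN := by decide +kernel
  exact h2 p hp h1

/-- **The prime powers.** -/
theorem pp_good {p a : ℕ} (hp : p.Prime) (ha : 0 < a) (h : Good (p ^ a)) : (p = 23 ∧ a = 1) ∨ (p = 2 ∧ a = 10) := by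
  obtain ⟨h1, h2, h3, h4⟩ := h
  have h5 := prime_dvd_bigN hp ((dvd_pow_self p ha.ne').trans h1)
  have h6 := exp_le h5 h1
  have key : ∀ q ∈ [2, 3, 5, 7, 11, 23], ∀ b < 19, 0 < b → q ^ b ∣ bigN → (q ^ b = 1 ∨ 21 ≤ q ^ b) →
      q ^ b % 23 ∈ [0, 1, 11, 12, 22] → q ^ b % 11 ∈ [0, 1, 5, 6, 10] → (q = 23 ∧ b = 1) ∨ (q = 2 ∧ b = 10) := by
    decide +kernel
  exact key p h5 a h6 ha h1 h2 h3 h4

theorem not_good_24 : ¬ Good 24 := fun h => absurd h.2.2.2 (by decide)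
theorem not_good_48 : ¬ Good 48 := fun h => absurd h.2.2.1 (by decide)
theorem not_good_44 : ¬ Good 44 := fun h => absurd h.2.2.1 (by decide)
theorem not_good_88 : ¬ Good 88 := fun h => absurd h.2.2.1 (by decide)

theorem not_dvd_good {d r : ℕ} (h : Good d) (hr : r ∈ [31, 43, 89, 127]) : ¬ r ∣ d := by
  intro hc
  have h1 : ∀ s ∈ [31, 43, 89, 127], ¬ s ∣ bigN := by decide +kernel
  exact h1 r hr (hc.trans h.1)

variable {D : Set ℕ} {A : Type u} [Group A] [Finite A]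

/-- **The groups with `|S|_p = p`**, for any socle of Lie type -/
theorem lie_prime {p : ℕ} (hp : p.Prime) (h3 : 5 < p) (hpp : ∀ a : ℕ, 2 ≤ a → p ^ a ∉ D) (h4 : p + 1 ∉ D)
    (h5 : 2 * (p + 1) ∉ D) {S : Subgroup A} (hA : AlmostSimple A S) (h : charDegrees A ⊆ D)
    (hl : IsLieTypeChar p S) : False := by
  have := hA.normal
  have := hA.simple
  have hi : S.index ∣ Nat.card (Cfsg.Out S) := H816.OutEmb.index_dvd S (by rw [hA.cent]; exact bot_le)
  obtain ⟨t, k, hv, ht, h1, h2⟩ := typ_mem_D S h hp hl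
  rcases (show k * t.N = 1 ∨ 2 ≤ k * t.N by omega) with ha | ha
  · obtain ⟨rfl, rfl⟩ := typ_prime hv ha
    rw [ha, pow_one] at h2
    obtain ⟨F, _, _, hF, ⟨e⟩⟩ := ht
    rw [pow_one] at hF
    obtain ⟨-, h6, -⟩ := H664.R1.PSLTwo.degrees_odd (F := F)
      (by rw [hF]; exact hp.odd_of_ne_two (by omega)) (by rw [hF]; exact h3)
    rw [hF] at h6
    have : Fact p.Prime := ⟨hp⟩
    have ho : Nat.card (Out S) = 2 := by
      rw [Nat.card_congr (H234.OutGood.outCongr e).toEquiv,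
        H60.HalfPsl.card_out (F := F) (p := p) (f := 1) (by norm_num) (by rw [pow_one]; exact hF)
          (by rw [pow_one]; omega), pow_one, mul_one]
      obtain ⟨m, hm⟩ := hp.odd_of_ne_two (by omega)
      exact Nat.gcd_eq_left ⟨m, by omega⟩
    rw [ho] at hi
    obtain ⟨d, h7, ⟨c, h8⟩, h9⟩ := over_mem S h (mem_equiv e h6)
    subst h8
    rw [Nat.mul_div_cancel_left _ (by omega)] at h9
    have h10 : c ∣ 2 := h9.trans hi
    rcases (Nat.dvd_prime Nat.prime_two).1 h10 with rfl | rfl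
    · rw [mul_one] at h7; exact h4 h7
    · rw [mul_comm] at h7; exact h5 h7
  · exact hpp _ ha h2

/-- **Odd characteristic.** -/
theorem lie_odd (hD : ∀ d ∈ D, Good d) {S : Subgroup A} (hA : AlmostSimple A S) (h : charDegrees A ⊆ D) {p : ℕ}
    (hp : p.Prime) (h2 : p ≠ 2) (hl : IsLieTypeChar p S) : False := by
  have := hA.normal
  have := hA.simple
  obtain ⟨t, k, -, -, h1, h3⟩ := typ_mem_D S h hp hl
  rcases pp_good hp h1 (hD _ h3) with ⟨rfl, h4⟩ | ⟨rfl, h4⟩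
  · refine lie_prime hp (by norm_num) ?_ (fun hc => not_good_24 (hD _ hc)) (fun hc => not_good_48 (hD _ hc)) hA h hl
    intro a ha hc
    rcases pp_good hp (by omega) (hD _ hc) with ⟨-, h5⟩ | ⟨h5, -⟩
    · omega
    · norm_num at h5
  · exact h2 rfl

/-- the powers of two -/
theorem two_good (hD : ∀ d ∈ D, Good d) {a : ℕ} (ha : 0 < a) (h : 2 ^ a ∈ D) : a = 10 := by
  rcases pp_good Nat.prime_two ha (hD _ h) with ⟨h5, -⟩ | ⟨-, h5⟩
  · norm_num at h5
  · exact h5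

end Cfsg.Agent.H185.S8
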