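import Cfsg.Agent.H690.S8.Lie
import Cfsg.Agent.H786.S8.MEleven
import Cfsg.Agent.H491.S8.MTwelve

/-!
# S4908, SOC1: socles of Lie type, rows M11 and M12 (helper185)
-/

set_option autoImplicit false

namespace Cfsg.Agent.H185.S8

open Cfsg Cfsg.Agent.H704 Cfsg.Agent.H690.S8
open Cfsg.Agent.H691.AN (AlmostSimple)

universe u v

variable {D : Set ℕ} {A : Type u} [Group A] [Finite A]

/-- **The row `M₁₁`, Lie type.** -/
theorem lie_m11 {X : Type v} [Group X] [Finite X] (hX : Cfsg.IsM11 X) (hD : H704.S8.Deg 1 X D) {S : Subgroup A}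
    (hA : AlmostSimple A S) (h : charDegrees A ⊆ D) {p : ℕ} (hp : p.Prime) (hl : IsLieTypeChar p S) : False :=
  lie_false_list (L := [1, 10, 11, 16, 44, 45, 55]) (fun _ hd => (H786.S8.MEleven.deg_iff hX hD).1 hd)
    (by decide +kernel) hA h hp hl

/-- the degrees divide `|Aut M₁₂|` -/
theorem dvd_m12 {X : Type v} [Group X] (hX : Cfsg.IsM12 X) (hout : (MulAut.conj : X →* MulAut X).range.index = 2)
    (hD : H704.S8.Deg 2 X D) {d : ℕ} (hd : d ∈ D) : d ∣ 190080 := by
  have := H491.S8.finite_m12 hX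
  rcases hD with rfl | ⟨-, rfl⟩
  · have h1 := H424.DegTools.dvd_card hd
    rw [hX.2] at h1
    exact h1.trans (by norm_num)
  · have h1 := H424.DegTools.dvd_card hd
    have h2 := (MulAut.conj : X →* MulAut X).range.card_mul_index
    have h3 : Nat.card (MulAut.conj : X →* MulAut X).range ∣ Nat.card X := by
      exact Subgroup.card_range_dvd _
    rw [hout] at h2
    rw [← h2] at h1
    refine h1.trans ?_
    rw [hX.2] at h3
    exact (Nat.mul_dvd_mul_right h3 2).trans (by norm_num)

/-- **The row `M₁₂`, Lie type.** -/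
theorem lie_m12 {X : Type v} [Group X] (hX : Cfsg.IsM12 X) (hout : (MulAut.conj : X →* MulAut X).range.index = 2)
    (hD : H704.S8.Deg 2 X D) {S : Subgroup A}
    (hA : AlmostSimple A S) (h : charDegrees A ⊆ D) {p : ℕ} (hp : p.Prime) (hl : IsLieTypeChar p S) : False := by
  have hsub : ∀ d ∈ D, (d = 1 ∨ d = 16 ∨ d = 32 ∨ d = 45 ∨ d = 54 ∨ d = 120 ∨ d = 144) ∨ 11 ∣ d := by
    intro d hd
    rcases H491.S8.deg_sub hX hout hD hd with h1 | h1
    · left; simpa using h1
    · right; exact h1.1
  have hdv : ∀ d ∈ D, d ∣ 190080 := fun d hd => dvd_m12 hX hout hD hd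
  have h11 : Nat.Prime 11 := by norm_num
  refine lie_false ?_ ?_ ?_ ?_ hA h hp hl
  · intro q hq hm
    rcases hsub q hm with h1 | h1
    · exfalso
      rcases h1 with rfl | rfl | rfl | rfl | rfl | rfl | rfl <;> norm_num at hq
    · obtain rfl := (Nat.prime_dvd_prime_iff_eq h11 hq).1 h1
      refine ⟨by norm_num, fun hc => ?_, fun hc => ?_⟩
      · rcases hsub _ hc with h2 | h2 <;> omega
      · rcases hsub _ hc with h2 | h2 <;> omega
  · intro q a hq ha hm
    rcases hsub _ hm with h1 | h1
    · have hq2 : 2 ≤ q := hq.two_le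
      rcases h1 with h1 | h1 | h1 | h1 | h1 | h1 | h1
      · exact absurd h1 (Nat.one_lt_pow (by omega) hq.one_lt).ne'
      · have h2 : q = 2 := ((Nat.prime_dvd_prime_iff_eq Nat.prime_two hq).1
          (Nat.prime_two.dvd_of_dvd_pow (by rw [h1]; norm_num))).symm
        subst h2
        exact ⟨rfl, Or.inl (Nat.pow_right_injective (le_refl 2) (h1.trans (by norm_num)))⟩
      · have h2 : q = 2 := ((Nat.prime_dvd_prime_iff_eq Nat.prime_two hq).1
          (Nat.prime_two.dvd_of_dvd_pow (by rw [h1]; norm_num))).symm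
        subst h2
        exact ⟨rfl, Or.inr (Nat.pow_right_injective (le_refl 2) (h1.trans (by norm_num)))⟩
      · exact absurd h1.symm (not_pp (by decide +kernel) hq)
      · exact absurd h1.symm (not_pp (by decide +kernel) hq)
      · exact absurd h1.symm (not_pp (by decide +kernel) hq)
      · exact absurd h1.symm (not_pp (by decide +kernel) hq)
    · exfalso
      obtain rfl := (Nat.prime_dvd_prime_iff_eq h11 hq).1 (h11.dvd_of_dvd_pow h1)
      have h2 : 11 ^ 2 ∣ 190080 := (pow_dvd_pow 11 ha).trans (hdv _ hm)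
      norm_num at h2
  · intro _ d hd hc
    have h2 := hc.trans (hdv d hd)
    norm_num at h2
  · intro _ d hd hc
    have h2 := hc.trans (hdv d hd)
    norm_num at h2

end Cfsg.Agent.H185.S8
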