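import Cfsg.Agent.H704.S8.Num
import Cfsg.Agent.H107.AN.BFour
import Cfsg.Agent.H131.AN.B3
import Cfsg.Agent.H724.AN.B
import Cfsg.Agent.H866.AN.B6
import Cfsg.Agent.H415.Palfy.Ext
import Cfsg.Agent.Transfer.ElemAbAut

/-!
# S4908, SOLVENG-a: the character of minimal degree of a solvable group (helper185)

* `exists_linear` : if `SC1 D m` holds, each irreducible character of minimal degree `m` of a solvable group with degree
  set `D` is induced from a linear character of a normal subgroup `A ≥ G'` of index `m`;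
* `exists_quotient` : there is a normal subgroup `L` such that `G / L` is not abelian and has degrees `1` and `m` only.
-/

set_option autoImplicit false

namespace Cfsg.Agent.H185.S8

open Cfsg Cfsg.Agent.Characters.Core Cfsg.Agent.H691.AN Cfsg.Agent.H424.DegTools Cfsg.Agent.H704.S8
open Cfsg.Agent.H107.AN (add_orbit inv_one exists_not_mem ncard_le indFun_lin)

universe u v

section Orb

variable {H : Type u} [Group H] {V : Type v} [CommGroup V] [Finite V] [MulDistribMulAction H V]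

theorem orbit_aux : ∀ (k : ℕ) (A : Set V), (∀ (h : H), ∀ a ∈ A, h • a ∈ A) → (1 : V) ∈ A → Nat.card V ≤ A.ncard + k →
    ∃ l : Multiset ℕ, (∀ o ∈ l, ∃ v : V, v ≠ 1 ∧ o = (MulAction.stabilizer H v).index) ∧
      A.ncard + l.sum = Nat.card V := by
  intro k
  induction k with
  | zero =>
    intro A _ _ hle
    refine ⟨0, by simp, ?_⟩
    rw [Multiset.sum_zero]
    exact le_antisymm (by simpa using ncard_le A) (by simpa using hle)
  | succ k ih =>
    intro A hA h1 hle
    by_cases hlt : A.ncard < Nat.card V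
    · obtain ⟨v, hv⟩ := exists_not_mem hlt
      obtain ⟨h2, h3⟩ := add_orbit (H := H) hA hv
      have hpos : 0 < (MulAction.stabilizer H v).index := by
        rw [MulAction.index_stabilizer, Set.ncard_pos (Set.toFinite _)]
        exact MulAction.nonempty_orbit v
      obtain ⟨l, hl, hs⟩ := ih _ h2 (Or.inl h1) (by omega)
      refine ⟨(MulAction.stabilizer H v).index ::ₘ l, ?_, ?_⟩
      · intro o ho
        rcases Multiset.mem_cons.1 ho with rfl | ho
        · exact ⟨v, by rintro rfl; exact hv h1, rfl⟩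
        · exact hl o ho
      · rw [Multiset.sum_cons]
        omega
    · refine ⟨0, by simp, ?_⟩
      rw [Multiset.sum_zero]
      exact le_antisymm (by simpa using ncard_le A) (by simpa using hlt)

/-- the orbit equation -/
theorem exists_orbits : ∃ l : Multiset ℕ, (∀ o ∈ l, ∃ v : V, v ≠ 1 ∧ o = (MulAction.stabilizer H v).index) ∧
    l.sum + 1 = Nat.card V := by
  obtain ⟨l, hl, hs⟩ := orbit_aux (H := H) (V := V) (Nat.card V) {1} inv_one rfl (Nat.le_add_left _ _)
  rw [Set.ncard_singleton] at hs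
  exact ⟨l, hl, by omega⟩

/-- the exponent of an irreducible module -/
theorem exp_of_irr {s n : ℕ} (hs : s.Prime) (hn : 1 ≤ n) (hV : Nat.card V = s ^ n)
    (hirr : ∀ W : Subgroup V, (∀ h : H, ∀ w ∈ W, h • w ∈ W) → W = ⊥ ∨ W = ⊤) (v : V) : v ^ s = 1 := by
  have : Fact s.Prime := ⟨hs⟩
  let W : Subgroup V := (powMonoidHom s : V →* V).ker
  have hW : ∀ v : V, v ∈ W ↔ v ^ s = 1 := fun v => Iff.rfl
  rcases hirr W (fun h w hw => by
    rw [hW] at hw ⊢
    rw [← smul_pow', hw, smul_one]) with h | h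
  · exfalso
    obtain ⟨x, hx⟩ := exists_prime_orderOf_dvd_card' (G := V) s (by rw [hV]; exact dvd_pow_self s (by omega))
    have h1 : x ∈ W := by rw [hW, ← hx, pow_orderOf_eq_one]
    rw [h, Subgroup.mem_bot] at h1
    rw [h1, orderOf_one] at hx
    exact hs.one_lt.ne hx
  · have h1 : v ∈ W := by rw [h]; exact Subgroup.mem_top v
    exact h1

/-- the orbit lengths divide the order of the linear group -/
theorem index_dvd {s n : ℕ} (hs : s.Prime) (hV : Nat.card V = s ^ n) (hexp : ∀ v : V, v ^ s = 1) (v : V) :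
    (MulAction.stabilizer H v).index ∣ ∏ i : Fin n, (s ^ n - s ^ (i : ℕ)) := by
  have : Fact s.Prime := ⟨hs⟩
  let φ : H →* MulAut V := MulDistribMulAction.toMulAut H V
  have h1 : φ.ker ≤ MulAction.stabilizer H v := by
    intro h hh
    rw [MulAction.mem_stabilizer_iff]
    have h2 : φ h v = (1 : MulAut V) v := by rw [MonoidHom.mem_ker.1 hh]
    exact h2
  refine (Subgroup.index_dvd_of_le h1).trans ?_
  rw [Subgroup.index_ker, ← Cfsg.Agent.Transfer.ElemAbAut.card_mulAut s n (fun x y => mul_comm x y) hexp hV]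
  exact Subgroup.card_subgroup_dvd_card _

end Orb

variable {G : Type u} [Group G] [Finite G]

/-- **The characters of minimal degree.** -/
theorem exists_linear [Group.IsSolvable G] {m : ℕ} (hmin : ∀ d ∈ charDegrees G, d = 1 ∨ m ≤ d)
    (hsc : SC1 (charDegrees G) m) {χ : G → ℂ} (hχ : IsIrrCharacter G χ) (hχ1 : χ 1 = (m : ℕ)) :
    ∃ A : Subgroup G, A.Normal ∧ commutator G ≤ A ∧ A.index = m ∧ ∀ g ∈ ⁅A, A⁆, χ g = χ 1 := by
  classical
  have := Fintype.ofFinite G
  obtain ⟨H, lam, hl, hqp, hind⟩ := Cfsg.Agent.H724.AN.b2_exists_qp hχ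
  obtain ⟨b, hb0, hb⟩ := isIrr_apply_one hl
  have hmi : m = H.index * b := by
    have h1 := OddOrderCharacters.IndRes.indFun_apply_one H lam
    rw [hind, hχ1, hb] at h1
    exact_mod_cast h1
  have hle : H.index ≤ m := by
    rw [hmi]
    exact Nat.le_mul_of_pos_right _ (by omega)
  have hcH : commutator G ≤ H := Cfsg.Agent.H724.AN.b1_trick hmin H hle
  have hHn : H.Normal := Subgroup.Normal.of_commutator_le _ hcH
  by_cases hb1 : b = 1
  · subst hb1
    refine ⟨H, hHn, hcH, by rw [hmi, mul_one], ?_⟩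
    intro g hg
    rw [← hind]
    exact indFun_lin H hl (by simpa using hb) hg
  · exfalso
    obtain ⟨s, c, V, _, _, _, hs, hc, hV, hsb, hirr, horb⟩ := Cfsg.Agent.H131.AN.b3_section hl hqp hb hb1
    obtain ⟨l, hl1, hl2⟩ := exists_orbits (H := H) (V := V)
    refine hsc b s c ⟨H.index, by rw [hmi, mul_comm]⟩ hs hc hsb l ?_ (by rw [hl2, hV])
    intro o ho
    obtain ⟨v, hv, rfl⟩ := hl1 o ho
    obtain ⟨h1, h2⟩ := horb v hv
    have hopos := pos_of_mem h2
    refine ⟨by omega, ?_, ?_⟩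
    · have h3 := index_dvd (H := H) hs hV (exp_of_irr (H := H) hs (by omega) hV hirr) v
      unfold gl
      rwa [Finset.prod_range]
    · obtain ⟨d, hd, hod, hdi⟩ := clifford_up H h2
      obtain ⟨t, rfl⟩ := hod
      rw [Nat.mul_div_cancel_left _ hopos] at hdi
      refine ⟨t, ?_, hd⟩
      rw [hmi, Nat.mul_div_cancel _ (by omega)]
      exact hdi

/-- **A quotient with degrees `1` and `m`.** -/
theorem exists_quotient [Group.IsSolvable G] {m : ℕ} (hm1 : 1 < m) (hmem : m ∈ charDegrees G)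
    (hmin : ∀ d ∈ charDegrees G, d = 1 ∨ m ≤ d) (hsc : SC1 (charDegrees G) m) :
    ∃ (L : Subgroup G) (_ : L.Normal), ¬ commutator G ≤ L ∧ ∀ d ∈ charDegrees (G ⧸ L), d = 1 ∨ d = m := by
  obtain ⟨χ, hχ, hχ1⟩ := mem_charDegrees.1 hmem
  obtain ⟨A, hA, hcA, hAi, hker⟩ := exists_linear hmin hsc hχ hχ1
  have hLn : (⁅A, A⁆ : Subgroup G).Normal := Subgroup.commutator_normal A A
  refine ⟨⁅A, A⁆, hLn, Cfsg.Agent.H866.AN.not_comm_le hm1 _ hχ hχ1 hker, fun d hd => ?_⟩
  have hAn : (A.map (QuotientGroup.mk' ⁅A, A⁆)).Normal := hA.map _ (QuotientGroup.mk'_surjective _)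
  have h1 : d ∣ (A.map (QuotientGroup.mk' ⁅A, A⁆)).index := by
    refine Cfsg.Agent.H415.Palfy.ito _ ?_ hd
    rintro _ ⟨a, ha, rfl⟩ _ ⟨b, hb, rfl⟩
    rw [← map_mul, ← map_mul]
    refine QuotientGroup.eq.2 ?_
    have h2 : (a * b)⁻¹ * (b * a) = b⁻¹ * a⁻¹ * b⁻¹⁻¹ * a⁻¹⁻¹ := by group
    rw [h2]
    exact Subgroup.commutator_mem_commutator (A.inv_mem hb) (A.inv_mem ha)
  rw [Subgroup.index_map, QuotientGroup.ker_mk', sup_eq_left.2 (Subgroup.commutator_le_left A A),
    MonoidHom.range_eq_top.2 (QuotientGroup.mk'_surjective _), Subgroup.index_top, mul_one, hAi] at h1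
  have h3 : d ∈ charDegrees G :=
    charDegrees_of_surjective (QuotientGroup.mk' ⁅A, A⁆) (QuotientGroup.mk'_surjective _) hd
  rcases hmin d h3 with h4 | h4
  · exact Or.inl h4
  · exact Or.inr (le_antisymm (Nat.le_of_dvd (by omega) h1) h4)

end Cfsg.Agent.H185.S8
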