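import Cfsg.Agent.H185.S8.MinDeg
import Cfsg.Agent.H497.S8.Core

/-!
# S4908: the two engines `NumAll D → Solv D`, `NumMin D → Solv D` (helper185)

* `core` : `G` solvable, `L` normal with `G / L` nonabelian: some degree `f` of `G / L` is not killed (from helper497's
  `dich_surj`);
* `solv_of_numAll` (E1), `solv_of_numMin` (E2).
-/

set_option autoImplicit false

namespace Cfsg.Agent.H185.S8

open Cfsg Cfsg.Agent.H704.S8 Cfsg.Agent.H424.DegTools Cfsg.Agent.H681

universe u

/-- **CORE**: above a normal subgroup with nonabelian quotient there is a degree which is not killed -/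
theorem core {G : Type u} [Group G] [Finite G] [Group.IsSolvable G] (L : Subgroup G) [L.Normal]
    (hL : ¬ commutator G ≤ L) : ∃ f ∈ charDegrees (G ⧸ L), 1 < f ∧ ¬ Kill (charDegrees G) f := by
  have hπ := QuotientGroup.mk'_surjective L
  have hmap : commutator (G ⧸ L) = (commutator G).map (QuotientGroup.mk' L) := by
    rw [commutator_def, commutator_def, Subgroup.map_commutator, Subgroup.map_top_of_surjective _ hπ]
  have hne : commutator (G ⧸ L) ≠ ⊥ := by
    intro h
    rw [hmap, Subgroup.map_eq_bot_iff, QuotientGroup.ker_mk'] at h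
    exact hL h
  obtain ⟨K, hKn, h1, hmin⟩ := MinNonab.exists_quotient hne
  have hsol1 : Group.IsSolvable (G ⧸ L) := Group.isSolvable_of_surjective hπ
  have hsolK : Group.IsSolvable ((G ⧸ L) ⧸ K) := Group.isSolvable_of_surjective (QuotientGroup.mk'_surjective K)
  obtain ⟨p, f, hp, hf1, hf, h⟩ := H497.S8.dich_surj ((QuotientGroup.mk' K).comp (QuotientGroup.mk' L))
    ((QuotientGroup.mk'_surjective K).comp hπ) h1 hmin
  refine ⟨f, charDegrees_of_surjective (QuotientGroup.mk' K) (QuotientGroup.mk'_surjective K) hf, hf1, fun hk => ?_⟩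
  rcases h with ⟨⟨b, hb⟩, h2⟩ | ⟨-, m, hm, hmod, h2⟩
  · obtain ⟨d, hd, hpd, hdf⟩ := hk.1 p b hp hb
    rcases h2 d hd with h3 | h3
    · exact hpd h3
    · rw [mul_comm] at h3
      exact hdf h3
  · obtain ⟨d, hd, hdk⟩ := hk.2 p m hp hm hmod
    obtain ⟨e, he1, he2, h3⟩ := h2 d hd
    obtain ⟨h4, h5⟩ := hdk e he1 he2
    rcases h3 with h3 | h3
    · exact h5 h3
    · exact h4 h3

/-- **E1** -/
theorem solv_of_numAll {D : Set ℕ} (h : NumAll D) : Solv.{u} D := by
  intro G _ _ hs hG
  have := hs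
  obtain ⟨⟨d, hd, hd1⟩, hk⟩ := h
  have hne : ¬ commutator G ≤ (⊥ : Subgroup G) := by
    intro hc
    rw [← hG] at hd
    have h1 : d ∣ (⊤ : Subgroup G).index := by
      refine Cfsg.Agent.H415.Palfy.ito (⊤ : Subgroup G) ?_ hd
      intro a _ b _
      have h2 : a * b * a⁻¹ * b⁻¹ ∈ (⊥ : Subgroup G) :=
        hc (Subgroup.commutator_mem_commutator (Subgroup.mem_top a) (Subgroup.mem_top b))
      rw [Subgroup.mem_bot] at h2
      rwa [mul_inv_eq_one, mul_inv_eq_iff_eq_mul] at h2
    rw [Subgroup.index_top, Nat.dvd_one] at h1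
    omega
  obtain ⟨f, hf, hf1, hnk⟩ := core (⊥ : Subgroup G) hne
  refine hnk ?_
  rw [hG]
  refine hk f ?_ hf1
  rw [← hG]
  exact charDegrees_of_surjective (QuotientGroup.mk' ⊥) (QuotientGroup.mk'_surjective _) hf

/-- **E2** -/
theorem solv_of_numMin {D : Set ℕ} (h : NumMin D) : Solv.{u} D := by
  intro G _ _ hs hG
  have := hs
  obtain ⟨m, hm, hm1, hmin, hk, hsc⟩ := h
  subst hG
  obtain ⟨L, hL, hne, hdeg⟩ := exists_quotient hm1 hm hmin hsc
  obtain ⟨f, hf, hf1, hnk⟩ := core L hne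
  rcases hdeg f hf with h1 | rfl
  · omega
  · exact hnk hk

end Cfsg.Agent.H185.S8
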