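import Cfsg.Agent.H235.ExtOut
import Cfsg.Agent.H242.S8.Twin
import Cfsg.Agent.S2074
import Cfsg.Agent.SporadicRecognition.SuzOrder

/-!
# S4908, Suz: degrees of `Aut Suz` (helper185)

* `mem_aut` : an invariant irreducible character of `X`, `|Out X| ≤ 2`, gives a degree of `Aut X`;
* `ext_deg`, `aut_sup` : the row `Suz`.
-/

set_option autoImplicit false

namespace Cfsg.Agent.H185.S8.SuzAut

open Cfsg

universe v

section Gen

variable {X : Type v} [Group X] [Finite X]

omit [Finite X] in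
theorem not_comm_of [IsSimpleGroup X] (h : ¬ (Nat.card X).Prime) : ¬ IsMulCommutative X := by
  intro hc
  let _ : CommGroup X := { (inferInstance : Group X) with mul_comm := hc.is_comm.comm }
  exact h IsSimpleGroup.prime_card

theorem cyclic_out (h2 : Nat.card (Out X) ≤ 2) : IsCyclic (Out X) := by
  have hfin : Finite (MulAut X) := inferInstance
  have hpos : 0 < Nat.card (Out X) := Nat.card_pos
  have h3 : Nat.card (Out X) = 1 ∨ Nat.card (Out X) = 2 := by omega
  rcases h3 with h3 | h3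
  · exact @isCyclic_of_subsingleton _ _ (Nat.card_eq_one_iff_unique.1 h3).1
  · exact isCyclic_of_prime_card h3

/-- **invariant characters give degrees of `Aut X`** -/
theorem mem_aut [IsSimpleGroup X] (hna : ¬ IsMulCommutative X) (h2 : Nat.card (Out X) ≤ 2) {θ : X → ℂ}
    (h : IsIrrCharacter X θ) (hinv : ∀ (α : MulAut X) (g : X), θ (α g) = θ g) {d : ℕ} (hd : θ 1 = d) :
    d ∈ charDegrees (MulAut X) := by
  obtain ⟨ψ, hψ⟩ := H235.ExtOut.extAut_of_invariant hna (cyclic_out h2) ⟨θ, h⟩ hinv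
  have h1 := hψ 1
  rw [map_one] at h1
  exact H424.DegTools.mem_charDegrees.2 ⟨ψ, ψ.2, h1.trans hd⟩

/-- **the degrees of `Aut X`** -/
theorem sup_aut [IsSimpleGroup X] (hna : ¬ IsMulCommutative X) (h2 : Nat.card (Out X) ≤ 2) {n : ℕ}
    (hn : n ∈ charDegrees (MulAut X)) : n = 1 ∨ ∃ m ∈ charDegrees X, 1 < m ∧ (n = m ∨ n = 2 * m) := by
  obtain ⟨-, h3⟩ := H242.S8.deg_two' (X := X) inferInstance hna h2 (c := 2) (D := charDegrees (MulAut X))
    (Or.inr ⟨rfl, rfl⟩)
  rcases h3 n hn with h4 | ⟨m, h4, h5, rfl⟩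
  · by_cases h1 : n = 1
    · exact Or.inl h1
    · have h6 := H424.DegTools.pos_of_mem h4
      exact Or.inr ⟨n, h4, by omega, Or.inl rfl⟩
  · have h6 := H424.DegTools.pos_of_mem h4
    exact Or.inr ⟨m, h4, by omega, Or.inr rfl⟩

end Gen

theorem simple : IsSimpleGroup Spor.Suz := Cfsg.Agent.SporadicRecognition.SuzOrder.simple

theorem fin : Finite Spor.Suz :=
  Nat.finite_of_card_ne_zero (by rw [Cfsg.Agent.SporadicRecognition.SuzOrder.card_Suz]; norm_num)

theorem not_comm : ¬ IsMulCommutative Spor.Suz := by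
  have := simple
  have := fin
  exact not_comm_of (by rw [Cfsg.Agent.SporadicRecognition.SuzOrder.card_Suz]; norm_num)

/-- **(a)** -/
theorem ext_deg {θ : Spor.Suz → ℂ} (h : IsIrrCharacter Spor.Suz θ)
    (hinv : ∀ (α : MulAut Spor.Suz) (g : Spor.Suz), θ (α g) = θ g) {d : ℕ} (hd : θ 1 = d) :
    d ∈ charDegrees (MulAut Spor.Suz) := by
  have := simple
  have := fin
  exact mem_aut not_comm S2074.result.le h hinv hd

/-- **(b)** -/
theorem aut_sup {n : ℕ} (hn : n ∈ charDegrees (MulAut Spor.Suz)) :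
    n = 1 ∨ ∃ m ∈ charDegrees Spor.Suz, 1 < m ∧ (n = m ∨ n = 2 * m) := by
  have := simple
  have := fin
  exact sup_aut not_comm S2074.result.le hn

end Cfsg.Agent.H185.S8.SuzAut
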